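import Groth.Agent.L15.RadAnti.Main

/-!
The radical of a reductive subgroup of type (R) is C-critical.
-/

set_option autoImplicit false
set_option linter.style.haveILetI false
set_option linter.unusedSectionVars false
set_option backward.isDefEq.respectTransparency.types false
set_option maxHeartbeats 800000
universe u

open CategoryTheory CategoryTheory.Limits AlgebraicGeometry MonoidalCategory CartesianMonoidalCategory MonObj
open Groth.L08.TorusWeights

noncomputable section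

namespace Groth.L15.RadAnti

variable {S : Scheme.{u}}

theorem isCentre_comp_iso {Z Z₀ ZZ : Over S} [GrpObj Z] [GrpObj Z₀] [GrpObj ZZ] {jz : ZZ ⟶ Z}
    (hZZ : Red.IsCentre jz) (e : Z ≅ Z₀) [IsMonHom e.hom] [IsMonHom e.inv] : Red.IsCentre (jz ≫ e.hom) := by
  haveI := hZZ.1; haveI := hZZ.2.1
  refine ⟨inferInstance, mono_comp _ _, fun X g => ?_⟩
  constructor
  · rintro ⟨w, rfl⟩ X' x h
    have := commute_centre hZZ (x ≫ w) (h ≫ e.inv)
    have h2 := congrArg (· ≫ e.hom) this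
    simpa [MonObj.mul_comp] using h2
  · intro hg
    obtain ⟨w, hw⟩ := (hZZ.2.2 X (g ≫ e.inv)).2 fun X' x h => by
      rw [← cancel_mono e.hom]
      have := hg X' x (h ≫ e.hom)
      simpa [MonObj.mul_comp] using this
    exact ⟨w, by rw [reassoc_of% hw]; simp⟩

/-- **The radical of a reductive subgroup of type (R) is the radical of its centraliser.** -/
theorem radical_critical {G H ZH R Z ZZ RZ : Over S} [GrpObj G] [GrpObj H]
    [GrpObj ZH] [GrpObj R] [GrpObj Z] [GrpObj ZZ] [GrpObj RZ] (hG : Red.IsReductive G)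
    (i : H ⟶ G) (hi : RedSub.IsTypeR i) (hH : Red.IsReductive H)
    (jz : ZH ⟶ H) (hZH : Red.IsCentre jz) (r : R ⟶ ZH) (hR : Red.IsMaximalTorus r)
    (z : Z ⟶ G) (hZ : Red.IsCentralizerOf (r ≫ jz ≫ i) z)
    (jzz : ZZ ⟶ Z) (hZZ : Red.IsCentre jzz) (rz : RZ ⟶ ZZ) (hRZ : Red.IsMaximalTorus rz) :
    (∃ k : H ⟶ Z, k ≫ z = i) ∧ ∃ e : R ≅ RZ, e.hom ≫ rz ≫ jzz ≫ z = r ≫ jz ≫ i := by
  haveI := hi.1.1; haveI := hi.1.2; haveI := hR.1; haveI := hR.2.1; haveI := hZH.1; haveI := hZH.2.1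
  haveI := hZ.1; haveI := hZ.2.1; haveI := hZZ.1; haveI := hZZ.2.1; haveI := hRZ.1; haveI := hRZ.2.1
  haveI : Mono i := Over.mono_of_mono_left i
  haveI : IsMonHom (r ≫ jz ≫ i) := inferInstance
  haveI : Mono (r ≫ jz ≫ i) := inferInstance
  obtain ⟨k, hk⟩ := (hZ.2.2 H i).2 fun X x h => by
    have := congrArg (· ≫ i) (commute_centre hZH (h ≫ r) x).symm
    simpa [MonObj.mul_comp] using this
  obtain ⟨q, hq⟩ := (torus_le_radical hG (r ≫ jz ≫ i) hR.2.2.1 hZ hZZ hRZ).1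
  obtain ⟨Z₀, _, z₀, hz₀, hz₀R, hz₀red⟩ := exists_centralizer_reductive hG (r ≫ jz ≫ i) hR.2.2.1
  obtain ⟨e, he, -, hem, hem'⟩ := exists_iso_centralizer hZ hz₀
  haveI := hem; haveI := hem'; haveI := hz₀.1; haveI := hz₀.2.1
  obtain ⟨m, hm⟩ := exists_radical_le hG i hi hH z₀ hz₀R hz₀red (k ≫ e.hom)
    (by rw [Category.assoc, he, hk]) jz hZH r hR (jzz ≫ e.hom) (isCentre_comp_iso hZZ e) rz hRZ
  have hm' : m ≫ r ≫ jz ≫ i = rz ≫ jzz ≫ z := by
    have := congrArg (· ≫ z₀) hm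
    simp only [Category.assoc, he, hk] at this
    exact this
  refine ⟨⟨k, hk⟩, ⟨q, m, ?_, ?_⟩, hq⟩
  · rw [← cancel_mono (r ≫ jz ≫ i), Category.assoc, hm', hq, Category.id_comp]
  · rw [← cancel_mono (rz ≫ jzz ≫ z), Category.assoc, hq, hm', Category.id_comp]

end Groth.L15.RadAnti

end
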