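import Groth.Agent.L08.TorusWeights.Radical
import Groth.Agent.L08.Borel.CentBorel
import Groth.Agent.L08.Borel.IsoBase
import Groth.Agent.L15.Killing.Main

/-!
The radical is antitone on reductive subgroups of type (R).
-/

set_option autoImplicit false
set_option linter.style.haveILetI false
set_option linter.unusedSectionVars false
set_option backward.isDefEq.respectTransparency.types false
set_option maxHeartbeats 800000
universe u

open CategoryTheory CategoryTheory.Limits AlgebraicGeometry MonoidalCategory CartesianMonoidalCategory MonObj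
open Groth.L08.TorusWeights

noncomputable section

namespace Groth.L15.RadAnti

variable {S : Scheme.{u}}

/-- The centre of a reductive group is locally of finite presentation. -/
theorem lfp_centre {H Z : Over S} [GrpObj H] [GrpObj Z] (hH : Red.IsReductive H) {z : Z ⟶ H}
    (hz : Red.IsCentre z) : LocallyOfFinitePresentation Z.hom := by
  haveI := hH.1; haveI := hH.2.1
  obtain ⟨C, gC, c, hc, -, -, hCm, -, -⟩ :=
    Groth.Agent.S8402.result S H (isConnected_of_isReductive hH) (unipotentRankZero_of_isReductive hH)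
  obtain ⟨f, hf, -, -, -⟩ := exists_iso_centralizer hz hc
  haveI := Groth.L25.Locus.lfp_of_multTypeFT hCm
  haveI : IsIso f.hom.left := inferInstanceAs (IsIso ((Over.forget _).map f.hom))
  rw [← Over.w f.hom]
  infer_instance

theorem isCentre_bc {P : Scheme.{u}} (j : P ⟶ S) {G Z : Over S} [GrpObj G] [GrpObj Z] {z : Z ⟶ G}
    (hz : Red.IsCentre z) : Red.IsCentre ((Over.pullback j).map z) := by
  have h := Groth.L08.Borel.isCentralizerOf_bc j hz
  rwa [CategoryTheory.Functor.map_id] at h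

/-- **The radical is antitone.** -/
theorem exists_radical_le {G H H' ZH ZH' R R' : Over S} [GrpObj G] [GrpObj H] [GrpObj H'] [GrpObj ZH] [GrpObj ZH']
    [GrpObj R] [GrpObj R'] (hG : Red.IsReductive G) (i : H ⟶ G) (hi : RedSub.IsTypeR i) (hH : Red.IsReductive H)
    (i' : H' ⟶ G) (hi' : RedSub.IsTypeR i') (hH' : Red.IsReductive H') (k : H ⟶ H') (hk : k ≫ i' = i)
    (jz : ZH ⟶ H) (hZH : Red.IsCentre jz) (r : R ⟶ ZH) (hR : Red.IsMaximalTorus r)
    (jz' : ZH' ⟶ H') (hZH' : Red.IsCentre jz') (r' : R' ⟶ ZH') (hR' : Red.IsMaximalTorus r') :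
    ∃ m : R' ⟶ R, m ≫ r ≫ jz ≫ k = r' ≫ jz' := by
  haveI := hi.1.1; haveI := hi.1.2; haveI := hi'.1.1; haveI := hi'.1.2
  haveI := hH'.1; haveI := hH'.2.1; haveI := hH.1; haveI := hH.2.1
  haveI := hZH.1; haveI := hZH.2.1; haveI := hR.1; haveI := hR.2.1
  haveI := hZH'.1; haveI := hZH'.2.1; haveI := hR'.1; haveI := hR'.2.1
  haveI : Mono i' := Over.mono_of_mono_left i'
  haveI : Mono i := Over.mono_of_mono_left i
  haveI : IsMonHom k := isMonHom_of_mono k i' i hk
  haveI : Mono k := by haveI : Mono (k ≫ i') := hk ▸ inferInstance; exact mono_of_mono k i'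
  haveI : IsMonHom (r ≫ jz ≫ k) := inferInstance
  haveI : IsMonHom (r' ≫ jz') := inferInstance
  haveI : Mono (r ≫ jz ≫ k) := inferInstance
  have m₁ := Groth.L25.Locus.isMultTypeFT_of_isTorus hR.2.2.1
  have m₂ := Groth.L25.Locus.isMultTypeFT_of_isTorus hR'.2.2.1
  haveI := Groth.L25.MonoClosed.isClosedImmersion_of_mono m₁ (r ≫ jz ≫ k)
  refine Groth.L08.Borel.exists_fac_of_fibres m₂ m₁ (r' ≫ jz') (r ≫ jz ≫ k) (fun s X w hw h => ?_)
    (fun s X w _ g h => ?_)
  swap
  · rw [← Category.assoc]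
    exact (commute_centre hZH' (h ≫ r') g).symm
  let F := Over.pullback (Red.geomPt s)
  haveI := lfp_centre hH hZH
  haveI : IsMonHom (F.map k) := Groth.L25.MonoClosed.isMonHom_pullbackMap _ _
  haveI : IsMonHom (F.map i') := Groth.L25.MonoClosed.isMonHom_pullbackMap _ _
  haveI : IsMonHom (F.map (r' ≫ jz')) := Groth.L25.MonoClosed.isMonHom_pullbackMap _ _
  haveI : LocallyOfFinitePresentation (Red.geomFibre s ZH).hom :=
    MorphismProperty.pullback_snd (P := @LocallyOfFinitePresentation) _ _ ‹_›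
  haveI : Smooth (Red.geomFibre s H').hom := MorphismProperty.pullback_snd (P := @Smooth) _ _ hH'.2.1
  haveI : QuasiCompact (Red.geomFibre s H').hom :=
    MorphismProperty.pullback_snd (P := @QuasiCompact) _ _ hi'.2.2.1
  obtain ⟨T, _, tT, htm, hT⟩ := hi.2.2.2.2 s
  haveI := htm
  have hT' : Red.IsMaximalTorus (tT ≫ F.map k) := Groth.L15.Killing.isMaximalTorus_of_comp _ (F.map i') (by
    rw [Category.assoc, ← Functor.map_comp, hk]; exact hT)
  have hZ' := isCentre_bc (Red.geomPt s) hZH'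
  have hZ := isCentre_bc (Red.geomPt s) hZH
  obtain ⟨f, hf⟩ := Groth.L08.Borel.central_torus_le_maxTorus (F.map (r' ≫ jz'))
    (Groth.L25.Locus.isTorus_bc hR'.2.2.1 (Red.geomPt s)) (fun Y g x => by
      rw [Functor.map_comp, ← Category.assoc]
      exact (commute_centre hZ' (x ≫ F.map r') g).symm)
    (Groth.L08.Borel.isMaxTorus_of_isMaximalTorus hT')
  let ρ := f ≫ tT
  have hρ : ρ ≫ F.map k = F.map (r' ≫ jz') := by rw [Category.assoc]; exact hf
  haveI : IsMonHom ρ := isMonHom_of_mono ρ (F.map k) _ hρ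
  obtain ⟨w', hw'⟩ := (hZ.2.2 _ ρ).2 fun X' x g => by
    rw [Category.comp_id, ← cancel_mono (F.map k), MonObj.mul_comp, MonObj.mul_comp, Category.assoc, hρ,
      Functor.map_comp, ← Category.assoc]
    exact commute_centre hZ' (x ≫ F.map r') _
  haveI := hZ.1; haveI := hZ.2.1
  haveI : IsMonHom w' := isMonHom_of_mono w' (F.map jz) ρ hw'
  have hRs : Red.IsMaximalTorus (F.map r) := Groth.L08.Borel.isMaximalTorus_of_isMaxTorus
    ⟨Groth.L25.MonoClosed.isMonHom_pullbackMap _ _, Functor.map_mono _ _,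
      Groth.L25.Locus.isTorus_bc hR.2.2.1 (Red.geomPt s), hR.2.2.2 s⟩
  obtain ⟨ψ, hψ⟩ := Groth.L08.Borel.exists_fac_of_commute hRs w'
    (Groth.L25.Locus.isTorus_bc hR'.2.2.1 (Red.geomPt s)) fun Y t x => by
      rw [← cancel_mono (F.map jz), MonObj.mul_comp, MonObj.mul_comp]
      exact commute_centre hZ (t ≫ F.map r) _
  refine Groth.L08.Borel.fac_of_geomFibre (r' ≫ jz') (r ≫ jz ≫ k) s ψ ?_ X w hw h
  rw [Functor.map_comp, Functor.map_comp, reassoc_of% hψ, reassoc_of% hw']
  exact hρ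

end Groth.L15.RadAnti

end
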